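import Mathlib

/-!
# Integrality of the partial Horner sums of an algebraic relation, and a valuation-ring criterion
-/

set_option linter.style.haveILetI false
set_option linter.unusedVariables false
set_option linter.unusedSectionVars false
set_option autoImplicit false
set_option backward.isDefEq.respectTransparency.types false
set_option backward.isDefEq.respectTransparency false
set_option synthInstance.maxHeartbeats 400000
set_option maxHeartbeats 1600000

open Polynomial

namespace Groth.Agent.Helper7.ValEt

section ULemma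

variable {R S : Type*} [CommRing R] [CommRing S] [Algebra R S]

lemma coeff_iterate_divX (p : R[X]) (j i : ℕ) :
    ((divX)^[j] p).coeff i = p.coeff (i + j) := by
  induction j generalizing i with
  | zero => simp
  | succ j ih =>
    rw [Function.iterate_succ_apply', coeff_divX, ih]
    congr 1
    omega

lemma iterate_divX_eq_zero (p : R[X]) (j : ℕ) (hj : p.natDegree < j) : (divX)^[j] p = 0 := by
  ext i
  rw [coeff_iterate_divX, coeff_zero]
  exact coeff_eq_zero_of_natDegree_lt (by omega)

lemma degree_sub_iterate_divX_lt (p : R[X]) (j : ℕ) :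
    (p - (divX)^[j] p * X ^ j).degree < (j : WithBot ℕ) := by
  rw [degree_lt_iff_coeff_zero]
  intro i hi
  rw [coeff_sub, coeff_mul_X_pow', if_pos hi, coeff_iterate_divX, Nat.sub_add_cancel hi, sub_self]

lemma aeval_iterate_divX_succ (x : S) (p : R[X]) (j : ℕ) :
    aeval x ((divX)^[j] p) =
      aeval x ((divX)^[j + 1] p) * x + algebraMap R S (p.coeff j) := by
  have h0 : ((divX)^[j] p).coeff 0 = p.coeff j := by rw [coeff_iterate_divX, zero_add]
  calc aeval x ((divX)^[j] p)
      = aeval x (divX ((divX)^[j] p) * X + C (((divX)^[j] p).coeff 0)) := by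
        rw [divX_mul_X_add]
    _ = _ := by
        rw [h0, Function.iterate_succ_apply']
        simp

lemma isIntegral_mul_of_eq (u x : S) (hu : IsIntegral R u) (ℓ : R[X]) (m : ℕ)
    (hdeg : ℓ.degree < (m : WithBot ℕ)) (h : u * x ^ m + aeval x ℓ = 0) : IsIntegral R (u * x) := by
  by_cases hu0 : u = 0
  · rw [hu0, zero_mul]; exact isIntegral_zero
  let ū : integralClosure R S := ⟨u, hu⟩
  have hū : ū ≠ 0 := fun h0 => hu0 (congrArg Subtype.val h0)
  let p' : (integralClosure R S)[X] :=
    C ū * X ^ m + ℓ.map (algebraMap R (integralClosure R S))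
  have hp' : aeval x p' = 0 := by
    simp only [p', map_add, map_mul, aeval_C, map_pow, aeval_X, aeval_map_algebraMap]
    exact h
  have hd1 : (C ū * X ^ m).degree = (m : WithBot ℕ) := degree_C_mul_X_pow m hū
  have hd2 : (ℓ.map (algebraMap R (integralClosure R S))).degree < (C ū * X ^ m).degree := by
    rw [hd1]; exact lt_of_le_of_lt degree_map_le hdeg
  have hlc : p'.leadingCoeff = ū := by
    simp only [p']
    rw [leadingCoeff_add_of_degree_lt' hd2, leadingCoeff_C_mul_X_pow]
  have key := isIntegral_trans (R := R) _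
    (isIntegral_leadingCoeff_smul (R := integralClosure R S) p' x hp')
  rw [hlc] at key
  have e : ū • x = u * x := rfl
  rwa [e] at key

theorem uLemma (x : S) (p : R[X]) (hp : aeval x p = 0) (j : ℕ) :
    IsIntegral R (aeval x ((divX)^[j] p)) ∧ IsIntegral R (aeval x ((divX)^[j] p) * x) := by
  suffices H : ∀ k j : ℕ, p.natDegree + 1 ≤ j + k →
      IsIntegral R (aeval x ((divX)^[j] p)) ∧ IsIntegral R (aeval x ((divX)^[j] p) * x) from
    H (p.natDegree + 1) j (by omega)
  intro k
  induction k with
  | zero =>
    intro j hj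
    rw [iterate_divX_eq_zero p j (by omega)]
    simp [isIntegral_zero]
  | succ k ih =>
    intro j hj
    obtain ⟨h1, h2⟩ := ih (j + 1) (by omega)
    have hU : IsIntegral R (aeval x ((divX)^[j] p)) := by
      rw [aeval_iterate_divX_succ]
      exact h2.add isIntegral_algebraMap
    refine ⟨hU, ?_⟩
    refine isIntegral_mul_of_eq _ x hU (p - (divX)^[j] p * X ^ j) j
      (degree_sub_iterate_divX_lt p j) ?_
    simp [hp]

end ULemma

lemma exists_dvd_all {R ι : Type*} [CommRing R] [IsDomain R] [ValuationRing R] (f : ι → R)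
    (s : Finset ι) (hs : s.Nonempty) : ∃ i0 ∈ s, ∀ i ∈ s, f i0 ∣ f i := by
  classical
  induction s using Finset.induction_on with
  | empty => exact absurd hs (by simp)
  | insert a s ha ih =>
    by_cases hs' : s.Nonempty
    · obtain ⟨i0, hi0, h⟩ := ih hs'
      rcases ValuationRing.dvd_total (f a) (f i0) with h1 | h1
      · refine ⟨a, Finset.mem_insert_self _ _, fun i hi => ?_⟩
        rcases Finset.mem_insert.mp hi with rfl | hi
        · exact dvd_rfl
        · exact h1.trans (h i hi)
      · refine ⟨i0, Finset.mem_insert_of_mem hi0, fun i hi => ?_⟩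
        rcases Finset.mem_insert.mp hi with rfl | hi
        · exact h1
        · exact h i hi
    · rw [Finset.not_nonempty_iff_eq_empty] at hs'
      subst hs'
      exact ⟨a, by simp, by simp⟩

/-- A local integrally closed domain `D` over a valuation ring `R`: an element of the fraction
field that is algebraic over `R` lies in `D` or its inverse does. -/
theorem isInteger_or_inv {R D F : Type*} [CommRing R] [IsDomain R] [ValuationRing R]
    [CommRing D] [IsDomain D] [IsLocalRing D] [IsIntegrallyClosed D] [Algebra R D]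
    [Field F] [Algebra D F] [IsFractionRing D F] [Algebra R F] [IsScalarTower R D F]
    (hinj : Function.Injective (algebraMap R F)) (x : F) (hx : IsAlgebraic R x) :
    IsLocalization.IsInteger D x ∨ IsLocalization.IsInteger D x⁻¹ := by
  classical
  obtain ⟨p0, hp0, hp0x⟩ := hx
  have hs : p0.support.Nonempty := Polynomial.support_nonempty.mpr hp0
  obtain ⟨i0, hi0, hdiv⟩ := exists_dvd_all (fun i => p0.coeff i) p0.support hs
  have hc : p0.coeff i0 ≠ 0 := mem_support_iff.mp hi0
  have hCd : C (p0.coeff i0) ∣ p0 := by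
    rw [C_dvd_iff_dvd_coeff]
    intro i
    by_cases hi : i ∈ p0.support
    · exact hdiv i hi
    · rw [notMem_support_iff.mp hi]; exact dvd_zero _
  obtain ⟨p, hp⟩ := hCd
  have hpc : p.coeff i0 = 1 := by
    have h1 := congrArg (fun q => q.coeff i0) hp
    simp only [coeff_C_mul] at h1
    exact (mul_eq_left₀ hc).mp h1.symm
  have hpx : aeval x p = 0 := by
    rw [hp, map_mul, aeval_C] at hp0x
    rcases mul_eq_zero.mp hp0x with h | h
    · exact absurd ((map_eq_zero_iff _ hinj).mp h) hc
    · exact h
  let U : ℕ → F := fun j => aeval x ((divX)^[j] p)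
  have hint : ∀ j, (∃ c : D, algebraMap D F c = U j) ∧ (∃ c : D, algebraMap D F c = U j * x) := by
    intro j
    obtain ⟨h1, h2⟩ := uLemma x p hpx j
    exact ⟨IsIntegrallyClosed.algebraMap_eq_of_integral (h1.tower_top (A := D)),
      IsIntegrallyClosed.algebraMap_eq_of_integral (h2.tower_top (A := D))⟩
  have hrec : U i0 = U (i0 + 1) * x + 1 := by
    have h1 := aeval_iterate_divX_succ x p i0
    rw [hpc, map_one] at h1
    exact h1
  obtain ⟨c1, hc1⟩ := (hint i0).1
  obtain ⟨c1', hc1'⟩ := (hint i0).2
  obtain ⟨c2', hc2'⟩ := (hint (i0 + 1)).1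
  obtain ⟨c2, hc2⟩ := (hint (i0 + 1)).2
  have hsum : c1 + (-c2) = 1 := by
    apply IsFractionRing.injective D F
    rw [map_add, map_neg, map_one, hc1, hc2, hrec]; ring
  have hunit : IsUnit c1 ∨ IsUnit (-c2) :=
    IsLocalRing.isUnit_or_isUnit_of_isUnit_add (by rw [hsum]; exact isUnit_one)
  rcases hunit with h | h
  · left
    obtain ⟨w, rfl⟩ := h
    refine ⟨↑w⁻¹ * c1', ?_⟩
    have hw : algebraMap D F ↑w⁻¹ * U i0 = 1 := by
      rw [← hc1, ← map_mul, Units.inv_mul, map_one]
    rw [map_mul, hc1', ← mul_assoc, hw, one_mul]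
  · right
    rw [IsUnit.neg_iff] at h
    obtain ⟨w, rfl⟩ := h
    refine ⟨c2' * ↑w⁻¹, ?_⟩
    have hw : U (i0 + 1) * x * algebraMap D F ↑w⁻¹ = 1 := by
      rw [← hc2, ← map_mul, Units.mul_inv, map_one]
    rw [map_mul, hc2']
    apply eq_inv_of_mul_eq_one_left
    rw [← hw]; ring

end Groth.Agent.Helper7.ValEt
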