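import Mathlib
import Groth.Agent.Lib.Helper6.Normal.Etale
import Groth.Agent.Lib.Helper7.ValEt.ULemma

/-!
# Local rings of an etale algebra over a valuation ring are valuation rings
-/

set_option linter.style.haveILetI false
set_option linter.unusedVariables false
set_option linter.unusedSectionVars false
set_option autoImplicit false
set_option backward.isDefEq.respectTransparency.types false
set_option backward.isDefEq.respectTransparency false
set_option synthInstance.maxHeartbeats 400000
set_option maxHeartbeats 1600000

universe u

namespace Groth.Agent.Helper7.ValEt

theorem injective_algebraMap_loc (R E : Type u) [CommRing R] [IsDomain R]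
    [CommRing E] [Algebra R E] [Module.Flat R E] (P : Ideal E) [P.IsPrime] :
    Function.Injective (algebraMap R (Localization.AtPrime P)) := by
  haveI : Module.Flat R (Localization.AtPrime P) := Module.Flat.trans R E _
  exact FaithfulSMul.algebraMap_injective R _

theorem isAlgebraic_frac (R E : Type u) [CommRing R] [IsDomain R]
    [CommRing E] [Algebra R E] [Algebra.Etale R E] (P : Ideal E) [P.IsPrime]
    [IsDomain (Localization.AtPrime P)] (x : FractionRing (Localization.AtPrime P)) :
    IsAlgebraic R x := by
  have hinj := injective_algebraMap_loc R E P
  let D := Localization.AtPrime P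
  let F := FractionRing D
  let K := FractionRing R
  have hinjF : Function.Injective (algebraMap R F) := by
    rw [IsScalarTower.algebraMap_eq R D F]
    exact (IsFractionRing.injective D F).comp hinj
  haveI : FaithfulSMul R F := (faithfulSMul_iff_algebraMap_injective R F).mpr hinjF
  letI : Algebra K F := FractionRing.liftAlgebra R F
  haveI : IsScalarTower R K F := FractionRing.isScalarTower_liftAlgebra R F
  haveI : Algebra.QuasiFinite R E := inferInstance
  haveI : Algebra.QuasiFinite R D := inferInstance
  haveI : Algebra.QuasiFinite R F := inferInstance
  haveI : Algebra.QuasiFinite K F := Algebra.QuasiFinite.of_restrictScalars R K F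
  haveI : Module.Finite K F := Module.Finite.of_quasiFinite
  have h1 : IsAlgebraic K (x : F) := Algebra.IsAlgebraic.isAlgebraic x
  exact (IsFractionRing.isAlgebraic_iff R K F).mpr h1

theorem isAlgebraic_loc (R E : Type u) [CommRing R] [IsDomain R]
    [CommRing E] [Algebra R E] [Algebra.Etale R E] (P : Ideal E) [P.IsPrime]
    [IsDomain (Localization.AtPrime P)] (x : Localization.AtPrime P) :
    IsAlgebraic R x := by
  have h := isAlgebraic_frac R E P (algebraMap _ _ x)
  exact (isAlgebraic_algebraMap_iff
    (IsFractionRing.injective (Localization.AtPrime P) (FractionRing (Localization.AtPrime P)))).mp h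

theorem claimVR (R E : Type u) [CommRing R] [IsDomain R] [ValuationRing R] [CommRing E]
    [Algebra R E] [Algebra.Etale R E] (P : Ideal E) [P.IsPrime] :
    IsDomain (Localization.AtPrime P) ∧
      (∀ _ : IsDomain (Localization.AtPrime P), ValuationRing (Localization.AtPrime P)) ∧
      Function.Injective (algebraMap R (Localization.AtPrime P)) := by
  obtain ⟨hdom, hic⟩ := Groth.Agent.Lib.Helper6.Normal.isNormalRing_of_etale R E P
  haveI := hdom
  haveI := hic
  have hinj := injective_algebraMap_loc R E P
  refine ⟨hdom, fun hd' => ?_, hinj⟩
  let D := Localization.AtPrime P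
  let F := FractionRing D
  have hinjF : Function.Injective (algebraMap R F) := by
    rw [IsScalarTower.algebraMap_eq R D F]
    exact (IsFractionRing.injective D F).comp hinj
  refine (ValuationRing.iff_isInteger_or_isInteger D F).mpr ?_
  intro x
  exact isInteger_or_inv (R := R) hinjF x (isAlgebraic_frac R E P x)

end Groth.Agent.Helper7.ValEt
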