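import Mathlib
import Groth.Agent.Lib.Helper7.ValEt.ClaimVR

/-!
# Etale local extensions of valuation rings are weakly unramified
-/

set_option linter.style.haveILetI false
set_option linter.unusedVariables false
set_option linter.unusedSectionVars false
set_option autoImplicit false
set_option backward.isDefEq.respectTransparency.types false
set_option backward.isDefEq.respectTransparency false
set_option synthInstance.maxHeartbeats 400000
set_option maxHeartbeats 1600000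

universe u

open TensorProduct

namespace Groth.Agent.Helper7.ValEt

/-- A nonzero element of a valuation ring `D`, algebraic over a valuation ring `A ⊆ D`, has a power
that is a unit multiple of an element of `A`. -/
theorem torsion {A D : Type*} [CommRing A] [IsDomain A] [ValuationRing A] [CommRing D] [IsDomain D]
    [ValuationRing D] [Algebra A D] (hinj : Function.Injective (algebraMap A D)) (h : D)
    (hh : h ≠ 0) (halg : IsAlgebraic A h) :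
    ∃ (n : ℕ) (a : A) (u : Dˣ), 0 < n ∧ h ^ n = algebraMap A D a * u := by
  classical
  obtain ⟨p, hp0, hp⟩ := halg
  have hs : p.support.Nonempty := Polynomial.support_nonempty.mpr hp0
  obtain ⟨f, hf⟩ : ∃ f : ℕ → D, ∀ i, f i = algebraMap A D (p.coeff i) * h ^ i := ⟨_, fun _ => rfl⟩
  obtain ⟨i0, hi0, hdiv⟩ := exists_dvd_all f p.support hs
  have hfne : ∀ i ∈ p.support, f i ≠ 0 := fun i hi => by
    rw [hf]
    exact mul_ne_zero ((map_ne_zero_iff _ hinj).mpr (Polynomial.mem_support_iff.mp hi))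
      (pow_ne_zero _ hh)
  have hdiv' : ∀ i ∈ p.support, ∃ c, f i = f i0 * c := fun i hi => hdiv i hi
  choose! g hg using hdiv'
  have hsum : ∑ i ∈ p.support, f i = 0 := by
    have h1 := hp
    rw [Polynomial.aeval_def, Polynomial.eval₂_eq_sum, Polynomial.sum_def] at h1
    rw [← h1]
    exact Finset.sum_congr rfl (fun i _ => hf i)
  have hsum2 : f i0 * ∑ i ∈ p.support, g i = 0 := by
    rw [Finset.mul_sum, ← hsum]
    exact Finset.sum_congr rfl (fun i hi => (hg i hi).symm)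
  have hsum3 : ∑ i ∈ p.support, g i = 0 := (mul_eq_zero.mp hsum2).resolve_left (hfne i0 hi0)
  have hg0 : g i0 = 1 := (mul_eq_left₀ (hfne i0 hi0)).mp (hg i0 hi0).symm
  rw [← Finset.add_sum_erase _ _ hi0, hg0] at hsum3
  have hex : ∃ i1 ∈ p.support.erase i0, IsUnit (g i1) := by
    by_contra hcon
    push Not at hcon
    have hmem : ∑ i ∈ p.support.erase i0, g i ∈ IsLocalRing.maximalIdeal D :=
      Ideal.sum_mem _ (fun i hi => (IsLocalRing.mem_maximalIdeal _).mpr (hcon i hi))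
    have h1 : (1 : D) ∈ IsLocalRing.maximalIdeal D := by
      have h2 : (1 : D) = - ∑ i ∈ p.support.erase i0, g i := by
        rw [eq_neg_iff_add_eq_zero]; exact hsum3
      rw [h2]; exact neg_mem hmem
    exact (IsLocalRing.maximalIdeal.isMaximal D).ne_top ((Ideal.eq_top_iff_one _).mpr h1)
  obtain ⟨i1, hi1, hu1⟩ := hex
  obtain ⟨hne, hi1s⟩ := Finset.mem_erase.mp hi1
  obtain ⟨w, hw⟩ := hu1
  have hrel : f i1 = f i0 * w := by rw [hg i1 hi1s, hw]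
  have key : ∀ (i j : ℕ) (v : Dˣ), i < j → p.coeff i ≠ 0 → p.coeff j ≠ 0 → f i * v = f j →
      ∃ (n : ℕ) (a : A) (u : Dˣ), 0 < n ∧ h ^ n = algebraMap A D a * u := by
    intro i j v hij hci hcj hrel
    have hj : j = i + (j - i) := by omega
    have e1 : algebraMap A D (p.coeff i) * v = algebraMap A D (p.coeff j) * h ^ (j - i) := by
      have e0 : h ^ i * (algebraMap A D (p.coeff i) * v) =
          h ^ i * (algebraMap A D (p.coeff j) * h ^ (j - i)) := by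
        have e : h ^ j = h ^ i * h ^ (j - i) := by rw [← pow_add, ← hj]
        rw [hf, hf, e] at hrel
        linear_combination hrel
      exact mul_left_cancel₀ (pow_ne_zero _ hh) e0
    rcases ValuationRing.dvd_total (p.coeff i) (p.coeff j) with ⟨a', ha'⟩ | ⟨a', ha'⟩
    · rw [ha', map_mul, mul_assoc] at e1
      have e2 := mul_left_cancel₀ ((map_ne_zero_iff _ hinj).mpr hci) e1
      have hu : IsUnit (h ^ (j - i)) := by
        have h3 : IsUnit (algebraMap A D a' * h ^ (j - i)) := by rw [← e2]; exact v.isUnit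
        exact isUnit_of_mul_isUnit_right h3
      obtain ⟨u, hu⟩ := hu
      exact ⟨j - i, 1, u, by omega, by rw [map_one, one_mul, hu]⟩
    · rw [ha', map_mul, mul_assoc] at e1
      have e2 := mul_left_cancel₀ ((map_ne_zero_iff _ hinj).mpr hcj) e1
      exact ⟨j - i, a', v, by omega, e2.symm⟩
  rcases lt_or_gt_of_ne hne with hlt | hlt
  · refine key i1 i0 w⁻¹ hlt (Polynomial.mem_support_iff.mp hi1s)
      (Polynomial.mem_support_iff.mp hi0) ?_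
    rw [hrel, mul_assoc, Units.mul_inv, mul_one]
  · exact key i0 i1 w hlt (Polynomial.mem_support_iff.mp hi0)
      (Polynomial.mem_support_iff.mp hi1s) hrel.symm

lemma dvd_of_assoc {V : Type*} [CommRing V] [IsDomain V] [ValuationRing V] (X Y α : V) (n : ℕ)
    (hn : 0 < n) (W1 W2 W3 : V) (h1 : IsUnit W1) (h2 : IsUnit W2) (h3 : IsUnit W3)
    (hX : X ^ n = α * W1) (hY : Y ^ n * W2 = α * W3) : Y ∣ X := by
  rcases ValuationRing.dvd_total Y X with h | ⟨z, hz⟩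
  · exact h
  by_cases hα : α = 0
  · have hX0 : X = 0 := by
      rw [hα, zero_mul] at hX
      exact (pow_eq_zero_iff (by omega)).mp hX
    rw [hX0]; exact dvd_zero _
  have hzu : IsUnit z := by
    have e : α * (W1 * z ^ n * W2) = α * W3 := by
      rw [← hY, hz, mul_pow, hX]; ring
    have e2 := mul_left_cancel₀ hα e
    have h4 : IsUnit (W1 * z ^ n * W2) := by rw [e2]; exact h3
    have h5 : IsUnit (z ^ n) := isUnit_of_mul_isUnit_right (isUnit_of_mul_isUnit_left h4)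
    exact (isUnit_pow_iff (by omega)).mp h5
  obtain ⟨w, rfl⟩ := hzu
  exact ⟨↑w⁻¹, by rw [hz, mul_assoc, Units.mul_inv, mul_one]⟩

section Descent

variable (A B : Type u) [CommRing A] [IsDomain A] [ValuationRing A] [CommRing B] [Algebra A B]
    [Algebra.Etale A B] (m : Ideal B) [m.IsPrime]

local notation "𝔇" => Localization.AtPrime m
local notation "𝔈" => TensorProduct A (Localization.AtPrime m) B

/-- In the local ring of `𝔇 ⊗ B` at a prime `P'` missing all `1 ⊗ s` (`s ∉ m`),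
`1 ⊗ b` divides `β ⊗ 1`. -/
theorem loc_dvd [IsDomain 𝔇] [ValuationRing 𝔇] (b : B) (hb : algebraMap B 𝔇 b ≠ 0)
    (P' : Ideal 𝔈) [P'.IsPrime]
    (hP' : ∀ s ∈ m.primeCompl, ((1 : 𝔇) ⊗ₜ[A] s : 𝔈) ∉ P') :
    ∃ t ∈ P'.primeCompl, ∃ e : 𝔈,
      t * ((algebraMap B 𝔇 b) ⊗ₜ[A] (1 : B)) = ((1 : 𝔇) ⊗ₜ[A] b) * e := by
  classical
  have hinjD := injective_algebraMap_loc A B m
  have halg : IsAlgebraic A (algebraMap B 𝔇 b) := isAlgebraic_loc A B m _
  obtain ⟨n, a, u, hn, hβ⟩ := torsion hinjD _ hb halg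
  haveI : Algebra.Etale 𝔇 𝔈 := Algebra.Etale.baseChange A B 𝔇
  obtain ⟨hdomV, hvalV, -⟩ := claimVR 𝔇 𝔈 P'
  haveI := hdomV
  haveI : ValuationRing (Localization.AtPrime P') := hvalV hdomV
  have hunitS : ∀ s ∈ m.primeCompl,
      IsUnit (algebraMap 𝔈 (Localization.AtPrime P') ((1 : 𝔇) ⊗ₜ[A] s)) := by
    intro s hs
    exact IsLocalization.map_units (Localization.AtPrime P')
      (⟨(1 : 𝔇) ⊗ₜ[A] s, hP' s hs⟩ : P'.primeCompl)
  obtain ⟨⟨u', t⟩, hut⟩ := IsLocalization.surj m.primeCompl (u : 𝔇)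
  have hut' : (u : 𝔇) * algebraMap B 𝔇 (t : B) = algebraMap B 𝔇 u' := hut
  have hu'm : u' ∈ m.primeCompl := by
    have h1 : IsUnit (algebraMap B 𝔇 u') := by
      rw [← hut']; exact u.isUnit.mul (IsLocalization.map_units 𝔇 t)
    exact (IsLocalization.AtPrime.isUnit_to_map_iff 𝔇 m u').mp h1
  have heqD : algebraMap B 𝔇 (b ^ n * t) = algebraMap B 𝔇 (a • u') := by
    rw [map_mul, map_pow, Algebra.smul_def, map_mul, ← IsScalarTower.algebraMap_apply, ← hut', hβ]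
    ring
  obtain ⟨s', hs'⟩ := (IsLocalization.eq_iff_exists m.primeCompl 𝔇).mp heqD
  have hX : ((algebraMap B 𝔇 b) ⊗ₜ[A] (1 : B) : 𝔈) ^ n =
      ((algebraMap A 𝔇 a) ⊗ₜ[A] (1 : B)) * ((u : 𝔇) ⊗ₜ[A] (1 : B)) := by
    rw [Algebra.TensorProduct.tmul_pow, one_pow, hβ, Algebra.TensorProduct.tmul_mul_tmul, one_mul]
  have hY : ((1 : 𝔇) ⊗ₜ[A] b : 𝔈) ^ n * ((1 : 𝔇) ⊗ₜ[A] ((s' : B) * t)) =
      ((algebraMap A 𝔇 a) ⊗ₜ[A] (1 : B)) * ((1 : 𝔇) ⊗ₜ[A] ((s' : B) * u')) := by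
    have e1 : b ^ n * ((s' : B) * t) = a • ((s' : B) * u') := by
      rw [← mul_smul_comm, ← hs']; ring
    rw [Algebra.TensorProduct.tmul_pow, one_pow, Algebra.TensorProduct.tmul_mul_tmul,
      Algebra.TensorProduct.tmul_mul_tmul]
    simp only [one_mul, mul_one]
    rw [e1, TensorProduct.tmul_smul, TensorProduct.smul_tmul', Algebra.algebraMap_eq_smul_one]
  have hdvd : algebraMap 𝔈 (Localization.AtPrime P') ((1 : 𝔇) ⊗ₜ[A] b) ∣
      algebraMap 𝔈 (Localization.AtPrime P') ((algebraMap B 𝔇 b) ⊗ₜ[A] (1 : B)) := by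
    refine dvd_of_assoc _ _
      (algebraMap 𝔈 (Localization.AtPrime P') ((algebraMap A 𝔇 a) ⊗ₜ[A] (1 : B))) n hn
      (algebraMap 𝔈 (Localization.AtPrime P') ((u : 𝔇) ⊗ₜ[A] (1 : B)))
      (algebraMap 𝔈 (Localization.AtPrime P') ((1 : 𝔇) ⊗ₜ[A] ((s' : B) * t)))
      (algebraMap 𝔈 (Localization.AtPrime P') ((1 : 𝔇) ⊗ₜ[A] ((s' : B) * u'))) ?_ ?_ ?_ ?_ ?_
    · have h1 : IsUnit ((u : 𝔇) ⊗ₜ[A] (1 : B) : 𝔈) :=
        u.isUnit.map (Algebra.TensorProduct.includeLeft : 𝔇 →ₐ[A] 𝔈)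
      exact h1.map (algebraMap 𝔈 (Localization.AtPrime P'))
    · exact hunitS _ (m.primeCompl.mul_mem s'.2 t.2)
    · exact hunitS _ (m.primeCompl.mul_mem s'.2 hu'm)
    · rw [← map_pow, hX, map_mul]
    · rw [← map_pow, ← map_mul, hY, map_mul]
  obtain ⟨v, hv⟩ := hdvd
  obtain ⟨⟨e', t₀⟩, hvt⟩ := IsLocalization.surj P'.primeCompl v
  have hvt' : v * algebraMap 𝔈 (Localization.AtPrime P') (t₀ : 𝔈) =
      algebraMap 𝔈 (Localization.AtPrime P') e' := hvt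
  have h2 : algebraMap 𝔈 (Localization.AtPrime P')
        ((t₀ : 𝔈) * ((algebraMap B 𝔇 b) ⊗ₜ[A] (1 : B))) =
      algebraMap 𝔈 (Localization.AtPrime P') (((1 : 𝔇) ⊗ₜ[A] b) * e') := by
    rw [map_mul, map_mul, hv, ← hvt']; ring
  obtain ⟨c, hc⟩ := (IsLocalization.eq_iff_exists P'.primeCompl (Localization.AtPrime P')).mp h2
  refine ⟨(c : 𝔈) * t₀, P'.primeCompl.mul_mem c.2 t₀.2, (c : 𝔈) * e', ?_⟩
  linear_combination hc

theorem star [IsDomain 𝔇] [ValuationRing 𝔇] (b : B) (hb : algebraMap B 𝔇 b ≠ 0) :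
    ∃ s ∈ m.primeCompl, ∃ e : 𝔈,
      ((1 : 𝔇) ⊗ₜ[A] s) * ((algebraMap B 𝔇 b) ⊗ₜ[A] (1 : B)) = ((1 : 𝔇) ⊗ₜ[A] b) * e := by
  classical
  by_contra hcon
  push Not at hcon
  obtain ⟨𝔞, h𝔞⟩ : ∃ 𝔞 : Ideal 𝔈, ∀ e, e ∈ 𝔞 ↔
      e * ((algebraMap B 𝔇 b) ⊗ₜ[A] (1 : B)) ∈ Ideal.span {((1 : 𝔇) ⊗ₜ[A] b : 𝔈)} :=
    ⟨Submodule.comap (LinearMap.mulRight 𝔈 ((algebraMap B 𝔇 b) ⊗ₜ[A] (1 : B)))
      (Ideal.span {((1 : 𝔇) ⊗ₜ[A] b : 𝔈)}), fun e => Iff.rfl⟩
  obtain ⟨Sm, hSm⟩ : ∃ Sm : Submonoid 𝔈, ∀ e, e ∈ Sm ↔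
      ∃ s ∈ m.primeCompl, ((1 : 𝔇) ⊗ₜ[A] s : 𝔈) = e :=
    ⟨m.primeCompl.map ((Algebra.TensorProduct.includeRight : B →ₐ[A] 𝔈) : B →* 𝔈),
      fun e => Submonoid.mem_map⟩
  have hdisj : Disjoint (𝔞 : Set 𝔈) (Sm : Set 𝔈) := by
    rw [Set.disjoint_left]
    intro e he hes
    obtain ⟨s, hs, rfl⟩ := (hSm e).mp hes
    have h1 := (h𝔞 _).mp he
    rw [Ideal.mem_span_singleton'] at h1
    obtain ⟨e', he'⟩ := h1
    exact hcon s hs e' (by rw [mul_comm _ e', he'])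
  obtain ⟨P', hP', hle, hdisjP⟩ := Ideal.exists_le_prime_disjoint 𝔞 Sm hdisj
  haveI := hP'
  obtain ⟨t, ht, e, hte⟩ := loc_dvd A B m b hb P' (fun s hs hmem =>
    Set.disjoint_left.mp hdisjP hmem ((hSm _).mpr ⟨s, hs, rfl⟩))
  refine ht (hle ((h𝔞 t).mpr ?_))
  rw [Ideal.mem_span_singleton']
  exact ⟨e, by rw [mul_comm, hte]⟩

theorem exists_eq_unit_mul [IsDomain 𝔇] [ValuationRing 𝔇] (b : B) (hb : algebraMap B 𝔇 b ≠ 0) :
    ∃ (a : A) (u : 𝔇ˣ), algebraMap B 𝔇 b = u * algebraMap A 𝔇 a := by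
  classical
  obtain ⟨s, hs, e, he⟩ := star A B m b hb
  obtain ⟨β, hβ⟩ : ∃ β : 𝔇, β = algebraMap B 𝔇 b := ⟨_, rfl⟩
  rw [← hβ] at he hb ⊢
  obtain ⟨gB, hgB⟩ : ∃ gB : B →ₐ[A] 𝔇 ⧸ Ideal.span {β},
      ∀ b', gB b' = Ideal.Quotient.mk _ (algebraMap B 𝔇 b') :=
    ⟨(Ideal.Quotient.mkₐ A (Ideal.span {β})).comp (IsScalarTower.toAlgHom A B 𝔇), fun _ => rfl⟩
  obtain ⟨ψ, hψ⟩ : ∃ ψ : 𝔈 →ₐ[A] 𝔇 ⊗[A] (𝔇 ⧸ Ideal.span {β}),
      ∀ (d : 𝔇) (b' : B), ψ (d ⊗ₜ[A] b') = d ⊗ₜ[A] gB b' :=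
    ⟨Algebra.TensorProduct.map (AlgHom.id A 𝔇) gB, fun d b' => by simp⟩
  have hgb : gB b = 0 := by
    rw [hgB, Ideal.Quotient.eq_zero_iff_mem, ← hβ]; exact Ideal.mem_span_singleton_self _
  have hψb : ψ ((1 : 𝔇) ⊗ₜ[A] b) = 0 := by
    rw [hψ, hgb]; exact TensorProduct.tmul_zero _ _
  have h1 : (β ⊗ₜ[A] gB s : 𝔇 ⊗[A] (𝔇 ⧸ Ideal.span {β})) = 0 := by
    have h0 := congrArg ψ he
    rw [map_mul, map_mul, hψb, hψ, hψ, Algebra.TensorProduct.tmul_mul_tmul, one_mul,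
      map_one, mul_one] at h0
    exact h0.trans (zero_mul (ψ e))
  have hsu : IsUnit (gB s) := by
    rw [hgB]
    exact (IsLocalization.map_units 𝔇 (⟨s, hs⟩ : m.primeCompl)).map (Ideal.Quotient.mk _)
  obtain ⟨r, hr⟩ := hsu.exists_left_inv
  have h2 : (β ⊗ₜ[A] (1 : 𝔇 ⧸ Ideal.span {β}) : 𝔇 ⊗[A] (𝔇 ⧸ Ideal.span {β})) = 0 := by
    have h3 : ((1 : 𝔇) ⊗ₜ[A] r) * (β ⊗ₜ[A] gB s) = β ⊗ₜ[A] (1 : 𝔇 ⧸ Ideal.span {β}) := by
      rw [Algebra.TensorProduct.tmul_mul_tmul, one_mul, hr]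
    rw [← h3, h1]; exact mul_zero ((1 : 𝔇) ⊗ₜ[A] r)
  obtain ⟨f, hf⟩ : ∃ f : A →ₐ[A] (𝔇 ⧸ Ideal.span {β}),
      ∀ a, f a = Ideal.Quotient.mk _ (algebraMap A 𝔇 a) := ⟨Algebra.ofId A _, fun _ => rfl⟩
  have hι : Function.Injective (Ideal.kerLiftAlg f).toLinearMap := Ideal.kerLiftAlg_injective f
  haveI : Module.Flat A 𝔇 := Module.Flat.trans A B 𝔇
  have hinj2 := Module.Flat.lTensor_preserves_injective_linearMap (M := 𝔇)
    (Ideal.kerLiftAlg f).toLinearMap hι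
  have h3 : (β ⊗ₜ[A] (1 : A ⧸ RingHom.ker f) : 𝔇 ⊗[A] (A ⧸ RingHom.ker f)) = 0 := by
    apply hinj2
    rw [LinearMap.lTensor_tmul, map_zero]
    show β ⊗ₜ[A] (Ideal.kerLiftAlg f 1) = 0
    rw [map_one]; exact h2
  have h4 : β ∈ (RingHom.ker f • ⊤ : Submodule A 𝔇) := by
    have h5 := congrArg (TensorProduct.tensorQuotEquivQuotSMul 𝔇 (RingHom.ker f)) h3
    rw [map_zero, ← map_one (Ideal.Quotient.mk (RingHom.ker f)),
      TensorProduct.tensorQuotEquivQuotSMul_tmul_mk, one_smul] at h5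
    exact (Submodule.Quotient.mk_eq_zero _).mp h5
  have h5 : ∀ z ∈ (RingHom.ker f • ⊤ : Submodule A 𝔇),
      ∃ a ∈ RingHom.ker f, algebraMap A 𝔇 a ∣ z := by
    intro z hz
    refine Submodule.smul_induction_on hz ?_ ?_
    · intro a ha c _
      exact ⟨a, ha, ⟨c, by rw [Algebra.smul_def]⟩⟩
    · rintro z1 z2 ⟨a1, ha1, hd1⟩ ⟨a2, ha2, hd2⟩
      rcases ValuationRing.dvd_total a1 a2 with h | h
      · exact ⟨a1, ha1, dvd_add hd1 ((map_dvd (algebraMap A 𝔇) h).trans hd2)⟩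
      · exact ⟨a2, ha2, dvd_add ((map_dvd (algebraMap A 𝔇) h).trans hd1) hd2⟩
  obtain ⟨a, ha, c, hc⟩ := h5 β h4
  have ha' : β ∣ algebraMap A 𝔇 a := by
    have h6 : f a = 0 := ha
    rw [hf, Ideal.Quotient.eq_zero_iff_mem, Ideal.mem_span_singleton] at h6
    exact h6
  obtain ⟨c', hc'⟩ := ha'
  have hcc : c' * c = 1 := by
    have h7 : β * (c' * c) = β * 1 := by rw [mul_one, ← mul_assoc, ← hc', ← hc]
    exact mul_left_cancel₀ hb h7
  exact ⟨a, ⟨c, c', by rw [mul_comm]; exact hcc, hcc⟩, hc.trans (mul_comm _ _)⟩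

theorem main (hm : m.comap (algebraMap A B) = IsLocalRing.maximalIdeal A) :
    IsDomain 𝔇 ∧ (∀ _ : IsDomain 𝔇, ValuationRing 𝔇) ∧
      Function.Injective (algebraMap A 𝔇) ∧ IsLocalHom (algebraMap A 𝔇) ∧
      ∀ b : 𝔇, b ≠ 0 → ∃ (a : A) (u : 𝔇ˣ), b = u * algebraMap A 𝔇 a := by
  obtain ⟨hdom, hval, hinj⟩ := claimVR A B m
  refine ⟨hdom, hval, hinj, ?_, ?_⟩
  · constructor
    intro a ha
    rw [IsScalarTower.algebraMap_apply A B 𝔇, IsLocalization.AtPrime.isUnit_to_map_iff 𝔇 m] at ha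
    by_contra hna
    have h1 : a ∈ IsLocalRing.maximalIdeal A := (IsLocalRing.mem_maximalIdeal a).mpr hna
    rw [← hm] at h1
    exact ha h1
  · intro z hz
    haveI := hdom
    haveI : ValuationRing 𝔇 := hval hdom
    obtain ⟨⟨b, s⟩, hbs⟩ := IsLocalization.surj m.primeCompl z
    have hbs' : z * algebraMap B 𝔇 (s : B) = algebraMap B 𝔇 b := hbs
    have hus : IsUnit (algebraMap B 𝔇 (s : B)) := IsLocalization.map_units 𝔇 s
    have hb : algebraMap B 𝔇 b ≠ 0 := by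
      rw [← hbs']; exact mul_ne_zero hz hus.ne_zero
    obtain ⟨a, u, hau⟩ := exists_eq_unit_mul A B m b hb
    obtain ⟨w, hw⟩ := hus
    refine ⟨a, u * w⁻¹, ?_⟩
    have h1 : z = algebraMap B 𝔇 b * ↑w⁻¹ := by
      rw [← hbs', ← hw, mul_assoc, Units.mul_inv, mul_one]
    rw [h1, hau, Units.val_mul]; ring

end Descent

end Groth.Agent.Helper7.ValEt
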