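import Mathlib
import Groth.Agent.Lib.Helper7.ValEt.Main

/-!
# Etale local algebras over the Gauss point of a polynomial ring over a valuation ring
-/

set_option linter.style.haveILetI false
set_option linter.unusedVariables false
set_option linter.unusedSectionVars false
set_option autoImplicit false
set_option backward.isDefEq.respectTransparency.types false
set_option backward.isDefEq.respectTransparency false
set_option synthInstance.maxHeartbeats 400000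
set_option maxHeartbeats 1600000

universe u

open TensorProduct

namespace Groth.Agent.Helper7.ValEt

/-- Variant of `isInteger_or_inv`: a relation one of whose coefficients becomes a unit. -/
theorem isInteger_or_inv' {R D F : Type*} [CommRing R]
    [CommRing D] [IsDomain D] [IsLocalRing D] [IsIntegrallyClosed D] [Algebra R D]
    [Field F] [Algebra D F] [IsFractionRing D F] [Algebra R F] [IsScalarTower R D F]
    (x : F) (p : Polynomial R) (hpx : Polynomial.aeval x p = 0) (i0 : ℕ)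
    (hunit : IsUnit (algebraMap R D (p.coeff i0))) :
    IsLocalization.IsInteger D x ∨ IsLocalization.IsInteger D x⁻¹ := by
  let U : ℕ → F := fun j => Polynomial.aeval x ((Polynomial.divX)^[j] p)
  have hint : ∀ j, (∃ c : D, algebraMap D F c = U j) ∧ (∃ c : D, algebraMap D F c = U j * x) := by
    intro j
    obtain ⟨h1, h2⟩ := uLemma x p hpx j
    exact ⟨IsIntegrallyClosed.algebraMap_eq_of_integral (h1.tower_top (A := D)),
      IsIntegrallyClosed.algebraMap_eq_of_integral (h2.tower_top (A := D))⟩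
  have hrec : U i0 = U (i0 + 1) * x + algebraMap D F (algebraMap R D (p.coeff i0)) := by
    have h1 := aeval_iterate_divX_succ x p i0
    rw [IsScalarTower.algebraMap_apply R D F] at h1
    exact h1
  obtain ⟨c1, hc1⟩ := (hint i0).1
  obtain ⟨c1', hc1'⟩ := (hint i0).2
  obtain ⟨c2', hc2'⟩ := (hint (i0 + 1)).1
  obtain ⟨c2, hc2⟩ := (hint (i0 + 1)).2
  have hsum : c1 + (-c2) = algebraMap R D (p.coeff i0) := by
    apply IsFractionRing.injective D F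
    rw [map_add, map_neg, hc1, hc2, hrec]; ring
  have hunit' : IsUnit c1 ∨ IsUnit (-c2) :=
    IsLocalRing.isUnit_or_isUnit_of_isUnit_add (by rw [hsum]; exact hunit)
  rcases hunit' with h | h
  · left
    obtain ⟨w, rfl⟩ := h
    refine ⟨↑w⁻¹ * c1', ?_⟩
    have hw : algebraMap D F ↑w⁻¹ * U i0 = 1 := by
      rw [← hc1, ← map_mul, Units.inv_mul, map_one]
    rw [map_mul, hc1', ← mul_assoc, hw, one_mul]
  · right
    rw [IsUnit.neg_iff] at h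
    obtain ⟨w, rfl⟩ := h
    refine ⟨c2' * ↑w⁻¹, ?_⟩
    have hw : U (i0 + 1) * x * algebraMap D F ↑w⁻¹ = 1 := by
      rw [← hc2, ← map_mul, Units.mul_inv, map_one]
    rw [map_mul, hc2']
    apply eq_inv_of_mul_eq_one_left
    rw [← hw]; ring

/-- Variant of `torsion`: a relation whose coefficients are unit multiples of elements of `V`. -/
theorem torsion' {V D : Type*} [CommRing V] [IsDomain V] [ValuationRing V] [CommRing D]
    [IsDomain D] [ValuationRing D] (φ : V →+* D) (hinj : Function.Injective φ) (h : D)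
    (hh : h ≠ 0) (s : Finset ℕ) (hs : s.Nonempty) (c : ℕ → V) (ω : ℕ → D)
    (hc : ∀ i ∈ s, c i ≠ 0) (hω : ∀ i ∈ s, IsUnit (ω i))
    (hsum : ∑ i ∈ s, φ (c i) * ω i * h ^ i = 0) :
    ∃ (n : ℕ) (a : V) (u : Dˣ), 0 < n ∧ h ^ n = φ a * u := by
  classical
  obtain ⟨f, hf⟩ : ∃ f : ℕ → D, ∀ i, f i = φ (c i) * ω i * h ^ i := ⟨_, fun _ => rfl⟩
  obtain ⟨i0, hi0, hdiv⟩ := exists_dvd_all f s hs
  have hfne : ∀ i ∈ s, f i ≠ 0 := fun i hi => by
    rw [hf]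
    exact mul_ne_zero (mul_ne_zero ((map_ne_zero_iff _ hinj).mpr (hc i hi)) (hω i hi).ne_zero)
      (pow_ne_zero _ hh)
  have hdiv' : ∀ i ∈ s, ∃ d, f i = f i0 * d := fun i hi => hdiv i hi
  choose! g hg using hdiv'
  have hsum1 : ∑ i ∈ s, f i = 0 := by
    rw [← hsum]
    exact Finset.sum_congr rfl (fun i _ => hf i)
  have hsum2 : f i0 * ∑ i ∈ s, g i = 0 := by
    rw [Finset.mul_sum, ← hsum1]
    exact Finset.sum_congr rfl (fun i hi => (hg i hi).symm)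
  have hsum3 : ∑ i ∈ s, g i = 0 := (mul_eq_zero.mp hsum2).resolve_left (hfne i0 hi0)
  have hg0 : g i0 = 1 := (mul_eq_left₀ (hfne i0 hi0)).mp (hg i0 hi0).symm
  rw [← Finset.add_sum_erase _ _ hi0, hg0] at hsum3
  have hex : ∃ i1 ∈ s.erase i0, IsUnit (g i1) := by
    by_contra hcon
    push Not at hcon
    have hmem : ∑ i ∈ s.erase i0, g i ∈ IsLocalRing.maximalIdeal D :=
      Ideal.sum_mem _ (fun i hi => (IsLocalRing.mem_maximalIdeal _).mpr (hcon i hi))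
    have h1 : (1 : D) ∈ IsLocalRing.maximalIdeal D := by
      have h2 : (1 : D) = - ∑ i ∈ s.erase i0, g i := by
        rw [eq_neg_iff_add_eq_zero]; exact hsum3
      rw [h2]; exact neg_mem hmem
    exact (IsLocalRing.maximalIdeal.isMaximal D).ne_top ((Ideal.eq_top_iff_one _).mpr h1)
  obtain ⟨i1, hi1, hu1⟩ := hex
  obtain ⟨hne, hi1s⟩ := Finset.mem_erase.mp hi1
  obtain ⟨w, hw⟩ := hu1
  have hrel : f i1 = f i0 * w := by rw [hg i1 hi1s, hw]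
  have key : ∀ (i j : ℕ) (v : Dˣ), i < j → i ∈ s → j ∈ s → f i * v = f j →
      ∃ (n : ℕ) (a : V) (u : Dˣ), 0 < n ∧ h ^ n = φ a * u := by
    intro i j v hij his hjs hrel
    obtain ⟨wi, hwi⟩ := hω i his
    obtain ⟨wj, hwj⟩ := hω j hjs
    have hj : j = i + (j - i) := by omega
    have e1 : φ (c i) * (wi * v) = φ (c j) * (wj * h ^ (j - i)) := by
      have e0 : h ^ i * (φ (c i) * (wi * v)) = h ^ i * (φ (c j) * (wj * h ^ (j - i))) := by
        have e : h ^ j = h ^ i * h ^ (j - i) := by rw [← pow_add, ← hj]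
        rw [hf, hf, e, ← hwi, ← hwj] at hrel
        linear_combination hrel
      exact mul_left_cancel₀ (pow_ne_zero _ hh) e0
    rcases ValuationRing.dvd_total (c i) (c j) with ⟨a', ha'⟩ | ⟨a', ha'⟩
    · rw [ha', map_mul, mul_assoc] at e1
      have e2 := mul_left_cancel₀ ((map_ne_zero_iff _ hinj).mpr (hc i his)) e1
      have hu : IsUnit (h ^ (j - i)) := by
        have h3 : IsUnit (φ a' * (↑wj * h ^ (j - i))) := by
          rw [← e2]; exact (wi * v).isUnit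
        exact isUnit_of_mul_isUnit_right (isUnit_of_mul_isUnit_right h3)
      obtain ⟨u, hu⟩ := hu
      exact ⟨j - i, 1, u, by omega, by rw [map_one, one_mul, hu]⟩
    · rw [ha', map_mul, mul_assoc] at e1
      have e2 := mul_left_cancel₀ ((map_ne_zero_iff _ hinj).mpr (hc j hjs)) e1
      refine ⟨j - i, a', wi * v * wj⁻¹, by omega, ?_⟩
      have e3 : h ^ (j - i) = ↑wj⁻¹ * (↑wj * h ^ (j - i)) := by
        rw [← mul_assoc, Units.inv_mul, one_mul]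
      rw [e3, ← e2]
      simp only [Units.val_mul]
      ring
  rcases lt_or_gt_of_ne hne with hlt | hlt
  · refine key i1 i0 w⁻¹ hlt hi1s hi0 ?_
    rw [hrel, mul_assoc, Units.mul_inv, mul_one]
  · exact key i0 i1 w hlt hi0 hi1s hrel.symm

section Gauss

variable (V : Type u) [CommRing V] [IsDomain V] [ValuationRing V] (n : ℕ)

local notation "𝔓" => MvPolynomial (Fin n) V
local notation "𝔪" => Ideal.map (MvPolynomial.C : V →+* MvPolynomial (Fin n) V)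
  (IsLocalRing.maximalIdeal V)

/-- Gauss factorisation: a nonzero polynomial is a constant times a primitive polynomial. -/
theorem gauss_factor (F : 𝔓) (hF : F ≠ 0) :
    ∃ (c : V) (F0 : 𝔓), c ≠ 0 ∧ F = MvPolynomial.C c * F0 ∧ F0 ∉ 𝔪 := by
  classical
  have hs : F.support.Nonempty := MvPolynomial.support_nonempty.mpr hF  -- placeholder name
  obtain ⟨μ0, hμ0, hdiv⟩ := exists_dvd_all (fun μ => F.coeff μ) F.support hs
  have hc : F.coeff μ0 ≠ 0 := MvPolynomial.mem_support_iff.mp hμ0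
  have hCd : MvPolynomial.C (F.coeff μ0) ∣ F := by
    rw [MvPolynomial.C_dvd_iff_dvd_coeff]
    intro μ
    by_cases hμ : μ ∈ F.support
    · exact hdiv μ hμ
    · rw [MvPolynomial.notMem_support_iff.mp hμ]; exact dvd_zero _
  obtain ⟨F0, hF0⟩ := hCd
  refine ⟨F.coeff μ0, F0, hc, hF0, fun hmem => ?_⟩
  have h1 : F0.coeff μ0 = 1 := by
    have h2 := congrArg (fun q => MvPolynomial.coeff μ0 q) hF0
    simp only [MvPolynomial.coeff_C_mul] at h2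
    exact (mul_eq_left₀ hc).mp h2.symm
  have h3 := MvPolynomial.mem_map_C_iff.mp hmem μ0
  rw [h1] at h3
  exact (IsLocalRing.maximalIdeal.isMaximal V).ne_top ((Ideal.eq_top_iff_one _).mpr h3)

variable (E : Type u) [CommRing E] [Algebra (MvPolynomial (Fin n) V) E]
  [Algebra.Etale (MvPolynomial (Fin n) V) E] (P' : Ideal E) [P'.IsPrime]

local notation "𝔇" => Localization.AtPrime P'
local notation "𝔈" => TensorProduct (MvPolynomial (Fin n) V) (Localization.AtPrime P') E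

variable (hP' : ∀ F : MvPolynomial (Fin n) V,
  F ∉ Ideal.map (MvPolynomial.C : V →+* MvPolynomial (Fin n) V) (IsLocalRing.maximalIdeal V) →
    algebraMap (MvPolynomial (Fin n) V) E F ∉ P')

include hP' in
theorem gauss_isUnit (F : 𝔓) (hF : F ∉ 𝔪) : IsUnit (algebraMap 𝔓 𝔇 F) := by
  rw [IsScalarTower.algebraMap_apply 𝔓 E 𝔇]
  exact IsLocalization.map_units 𝔇 (⟨algebraMap 𝔓 E F, hP' F hF⟩ : P'.primeCompl)

include hP' in
/-- The local ring is a valuation ring as soon as it is a normal domain. -/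
theorem gauss_valuationRing [IsDomain 𝔇] [IsIntegrallyClosed 𝔇] : ValuationRing 𝔇 := by
  classical
  have hinj := injective_algebraMap_loc 𝔓 E P'
  have hinjF : Function.Injective (algebraMap 𝔓 (FractionRing 𝔇)) := by
    rw [IsScalarTower.algebraMap_eq 𝔓 𝔇 (FractionRing 𝔇)]
    exact (IsFractionRing.injective 𝔇 (FractionRing 𝔇)).comp hinj
  refine (ValuationRing.iff_isInteger_or_isInteger 𝔇 (FractionRing 𝔇)).mpr fun x => ?_
  obtain ⟨p0, hp0, hp0x⟩ := isAlgebraic_frac 𝔓 E P' x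
  let S : Finset (Σ _ : ℕ, (Fin n →₀ ℕ)) := p0.support.sigma (fun i => (p0.coeff i).support)
  have hS : S.Nonempty := by
    obtain ⟨i, hi⟩ := Polynomial.support_nonempty.mpr hp0
    obtain ⟨μ, hμ⟩ := MvPolynomial.support_nonempty.mpr (Polynomial.mem_support_iff.mp hi)
    exact ⟨⟨i, μ⟩, Finset.mem_sigma.mpr ⟨hi, hμ⟩⟩
  obtain ⟨⟨i0, μ0⟩, hmem, hdiv⟩ := exists_dvd_all
    (fun q : Σ _ : ℕ, (Fin n →₀ ℕ) => (p0.coeff q.1).coeff q.2) S hS
  obtain ⟨hi0, hμ0⟩ := Finset.mem_sigma.mp hmem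
  have hc : (p0.coeff i0).coeff μ0 ≠ 0 := MvPolynomial.mem_support_iff.mp hμ0
  have hall : ∀ i μ, (p0.coeff i0).coeff μ0 ∣ (p0.coeff i).coeff μ := by
    intro i μ
    by_cases h1 : i ∈ p0.support ∧ μ ∈ (p0.coeff i).support
    · exact hdiv ⟨i, μ⟩ (Finset.mem_sigma.mpr h1)
    · have h2 : (p0.coeff i).coeff μ = 0 := by
        by_contra h3
        apply h1
        refine ⟨Polynomial.mem_support_iff.mpr (fun h4 => h3 (by rw [h4]; rfl)),
          MvPolynomial.mem_support_iff.mpr h3⟩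
      rw [h2]; exact dvd_zero _
  have hCd : Polynomial.C (MvPolynomial.C ((p0.coeff i0).coeff μ0)) ∣ p0 := by
    rw [Polynomial.C_dvd_iff_dvd_coeff]
    intro i
    rw [MvPolynomial.C_dvd_iff_dvd_coeff]
    exact fun μ => hall i μ
  obtain ⟨p, hp⟩ := hCd
  have hpc : (p.coeff i0).coeff μ0 = 1 := by
    have h1 := congrArg (fun q => MvPolynomial.coeff μ0 (Polynomial.coeff q i0)) hp
    simp only [Polynomial.coeff_C_mul, MvPolynomial.coeff_C_mul] at h1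
    exact (mul_eq_left₀ hc).mp h1.symm
  have hpx : Polynomial.aeval x p = 0 := by
    rw [hp, map_mul, Polynomial.aeval_C] at hp0x
    rcases mul_eq_zero.mp hp0x with h | h
    · exact absurd ((MvPolynomial.C_injective _ _).eq_iff.mp
        (((map_eq_zero_iff _ hinjF).mp h).trans (map_zero _).symm)) hc
    · exact h
  have hnot : p.coeff i0 ∉ 𝔪 := by
    intro hmem'
    have h3 := MvPolynomial.mem_map_C_iff.mp hmem' μ0
    rw [hpc] at h3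
    exact (IsLocalRing.maximalIdeal.isMaximal V).ne_top ((Ideal.eq_top_iff_one _).mpr h3)
  exact isInteger_or_inv' (R := 𝔓) x p hpx i0 (gauss_isUnit V n E P' hP' _ hnot)

include hP' in
/-- In the local ring of `𝔇 ⊗ E` at a prime `P''` missing all `1 ⊗ s` (`s ∉ P'`),
`1 ⊗ b` divides `β ⊗ 1`. -/
theorem gauss_loc_dvd [IsDomain 𝔇] [ValuationRing 𝔇] (b : E) (hb : algebraMap E 𝔇 b ≠ 0)
    (P'' : Ideal 𝔈) [P''.IsPrime]
    (hP'' : ∀ s ∈ P'.primeCompl, ((1 : 𝔇) ⊗ₜ[𝔓] s : 𝔈) ∉ P'') :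
    ∃ t ∈ P''.primeCompl, ∃ e : 𝔈,
      t * ((algebraMap E 𝔇 b) ⊗ₜ[𝔓] (1 : E)) = ((1 : 𝔇) ⊗ₜ[𝔓] b) * e := by
  classical
  have hinjD := injective_algebraMap_loc 𝔓 E P'
  obtain ⟨p0, hp0, hp0x⟩ := isAlgebraic_loc 𝔓 E P' (algebraMap E 𝔇 b)
  have hfac : ∀ i ∈ p0.support, ∃ (c : V) (F0 : 𝔓), c ≠ 0 ∧
      p0.coeff i = MvPolynomial.C c * F0 ∧ F0 ∉ 𝔪 := fun i hi =>
    gauss_factor V n _ (Polynomial.mem_support_iff.mp hi)
  choose! cc FF hcc hFF hFF0 using hfac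
  obtain ⟨m, a0, u, hm, hβ0⟩ := torsion' ((algebraMap 𝔓 𝔇).comp MvPolynomial.C)
    (hinjD.comp (MvPolynomial.C_injective _ _)) (algebraMap E 𝔇 b) hb p0.support
    (Polynomial.support_nonempty.mpr hp0) cc (fun i => algebraMap 𝔓 𝔇 (FF i)) hcc
    (fun i hi => gauss_isUnit V n E P' hP' _ (hFF0 i hi)) (by
      have h1 := hp0x
      rw [Polynomial.aeval_def, Polynomial.eval₂_eq_sum, Polynomial.sum_def] at h1
      rw [← h1]
      refine Finset.sum_congr rfl (fun i hi => ?_)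
      rw [hFF i hi, map_mul]
      rfl)
  obtain ⟨a, ha⟩ : ∃ a : 𝔓, a = MvPolynomial.C a0 := ⟨_, rfl⟩
  have hβ : (algebraMap E 𝔇 b) ^ m = algebraMap 𝔓 𝔇 a * u := by rw [hβ0, ha]; rfl
  haveI : Algebra.Etale 𝔇 𝔈 := Algebra.Etale.baseChange 𝔓 E 𝔇
  obtain ⟨hdomV, hvalV, -⟩ := claimVR 𝔇 𝔈 P''
  haveI := hdomV
  haveI : ValuationRing (Localization.AtPrime P'') := hvalV hdomV
  have hunitS : ∀ s ∈ P'.primeCompl,
      IsUnit (algebraMap 𝔈 (Localization.AtPrime P'') ((1 : 𝔇) ⊗ₜ[𝔓] s)) := by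
    intro s hs
    exact IsLocalization.map_units (Localization.AtPrime P'')
      (⟨(1 : 𝔇) ⊗ₜ[𝔓] s, hP'' s hs⟩ : P''.primeCompl)
  obtain ⟨⟨u', t⟩, hut⟩ := IsLocalization.surj P'.primeCompl (u : 𝔇)
  have hut' : (u : 𝔇) * algebraMap E 𝔇 (t : E) = algebraMap E 𝔇 u' := hut
  have hu'm : u' ∈ P'.primeCompl := by
    have h1 : IsUnit (algebraMap E 𝔇 u') := by
      rw [← hut']; exact u.isUnit.mul (IsLocalization.map_units 𝔇 t)
    exact (IsLocalization.AtPrime.isUnit_to_map_iff 𝔇 P' u').mp h1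
  have heqD : algebraMap E 𝔇 (b ^ m * t) = algebraMap E 𝔇 (a • u') := by
    rw [map_mul, map_pow, Algebra.smul_def, map_mul, ← IsScalarTower.algebraMap_apply, ← hut', hβ]
    ring
  obtain ⟨s', hs'⟩ := (IsLocalization.eq_iff_exists P'.primeCompl 𝔇).mp heqD
  have hX : ((algebraMap E 𝔇 b) ⊗ₜ[𝔓] (1 : E) : 𝔈) ^ m =
      ((algebraMap 𝔓 𝔇 a) ⊗ₜ[𝔓] (1 : E)) * ((u : 𝔇) ⊗ₜ[𝔓] (1 : E)) := by
    rw [Algebra.TensorProduct.tmul_pow, one_pow, hβ, Algebra.TensorProduct.tmul_mul_tmul, one_mul]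
  have hY : ((1 : 𝔇) ⊗ₜ[𝔓] b : 𝔈) ^ m * ((1 : 𝔇) ⊗ₜ[𝔓] ((s' : E) * t)) =
      ((algebraMap 𝔓 𝔇 a) ⊗ₜ[𝔓] (1 : E)) * ((1 : 𝔇) ⊗ₜ[𝔓] ((s' : E) * u')) := by
    have e1 : b ^ m * ((s' : E) * t) = a • ((s' : E) * u') := by
      rw [← mul_smul_comm, ← hs']; ring
    rw [Algebra.TensorProduct.tmul_pow, one_pow, Algebra.TensorProduct.tmul_mul_tmul,
      Algebra.TensorProduct.tmul_mul_tmul]
    simp only [one_mul, mul_one]
    rw [e1, TensorProduct.tmul_smul, TensorProduct.smul_tmul', Algebra.algebraMap_eq_smul_one]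
  have hdvd : algebraMap 𝔈 (Localization.AtPrime P'') ((1 : 𝔇) ⊗ₜ[𝔓] b) ∣
      algebraMap 𝔈 (Localization.AtPrime P'') ((algebraMap E 𝔇 b) ⊗ₜ[𝔓] (1 : E)) := by
    refine dvd_of_assoc _ _
      (algebraMap 𝔈 (Localization.AtPrime P'') ((algebraMap 𝔓 𝔇 a) ⊗ₜ[𝔓] (1 : E))) m hm
      (algebraMap 𝔈 (Localization.AtPrime P'') ((u : 𝔇) ⊗ₜ[𝔓] (1 : E)))
      (algebraMap 𝔈 (Localization.AtPrime P'') ((1 : 𝔇) ⊗ₜ[𝔓] ((s' : E) * t)))
      (algebraMap 𝔈 (Localization.AtPrime P'') ((1 : 𝔇) ⊗ₜ[𝔓] ((s' : E) * u'))) ?_ ?_ ?_ ?_ ?_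
    · have h1 : IsUnit ((u : 𝔇) ⊗ₜ[𝔓] (1 : E) : 𝔈) :=
        u.isUnit.map (Algebra.TensorProduct.includeLeft : 𝔇 →ₐ[𝔓] 𝔈)
      exact h1.map (algebraMap 𝔈 (Localization.AtPrime P''))
    · exact hunitS _ (P'.primeCompl.mul_mem s'.2 t.2)
    · exact hunitS _ (P'.primeCompl.mul_mem s'.2 hu'm)
    · rw [← map_pow, hX, map_mul]
    · rw [← map_pow, ← map_mul, hY, map_mul]
  obtain ⟨v, hv⟩ := hdvd
  obtain ⟨⟨e', t₀⟩, hvt⟩ := IsLocalization.surj P''.primeCompl v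
  have hvt' : v * algebraMap 𝔈 (Localization.AtPrime P'') (t₀ : 𝔈) =
      algebraMap 𝔈 (Localization.AtPrime P'') e' := hvt
  have h2 : algebraMap 𝔈 (Localization.AtPrime P'')
        ((t₀ : 𝔈) * ((algebraMap E 𝔇 b) ⊗ₜ[𝔓] (1 : E))) =
      algebraMap 𝔈 (Localization.AtPrime P'') (((1 : 𝔇) ⊗ₜ[𝔓] b) * e') := by
    rw [map_mul, map_mul, hv, ← hvt']; ring
  obtain ⟨c, hc⟩ := (IsLocalization.eq_iff_exists P''.primeCompl (Localization.AtPrime P'')).mp h2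
  refine ⟨(c : 𝔈) * t₀, P''.primeCompl.mul_mem c.2 t₀.2, (c : 𝔈) * e', ?_⟩
  linear_combination hc

include hP' in
theorem gauss_star [IsDomain 𝔇] [ValuationRing 𝔇] (b : E) (hb : algebraMap E 𝔇 b ≠ 0) :
    ∃ s ∈ P'.primeCompl, ∃ e : 𝔈,
      ((1 : 𝔇) ⊗ₜ[𝔓] s) * ((algebraMap E 𝔇 b) ⊗ₜ[𝔓] (1 : E)) = ((1 : 𝔇) ⊗ₜ[𝔓] b) * e := by
  classical
  by_contra hcon
  push Not at hcon
  obtain ⟨𝔞, h𝔞⟩ : ∃ 𝔞 : Ideal 𝔈, ∀ e, e ∈ 𝔞 ↔
      e * ((algebraMap E 𝔇 b) ⊗ₜ[𝔓] (1 : E)) ∈ Ideal.span {((1 : 𝔇) ⊗ₜ[𝔓] b : 𝔈)} :=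
    ⟨Submodule.comap (LinearMap.mulRight 𝔈 ((algebraMap E 𝔇 b) ⊗ₜ[𝔓] (1 : E)))
      (Ideal.span {((1 : 𝔇) ⊗ₜ[𝔓] b : 𝔈)}), fun e => Iff.rfl⟩
  obtain ⟨Sm, hSm⟩ : ∃ Sm : Submonoid 𝔈, ∀ e, e ∈ Sm ↔
      ∃ s ∈ P'.primeCompl, ((1 : 𝔇) ⊗ₜ[𝔓] s : 𝔈) = e :=
    ⟨P'.primeCompl.map ((Algebra.TensorProduct.includeRight : E →ₐ[𝔓] 𝔈) : E →* 𝔈),
      fun e => Submonoid.mem_map⟩
  have hdisj : Disjoint (𝔞 : Set 𝔈) (Sm : Set 𝔈) := by
    rw [Set.disjoint_left]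
    intro e he hes
    obtain ⟨s, hs, rfl⟩ := (hSm e).mp hes
    have h1 := (h𝔞 _).mp he
    rw [Ideal.mem_span_singleton'] at h1
    obtain ⟨e', he'⟩ := h1
    exact hcon s hs e' (by rw [mul_comm _ e', he'])
  obtain ⟨P'', hP''p, hle, hdisjP⟩ := Ideal.exists_le_prime_disjoint 𝔞 Sm hdisj
  haveI := hP''p
  obtain ⟨t, ht, e, hte⟩ := gauss_loc_dvd V n E P' hP' b hb P'' (fun s hs hmem =>
    Set.disjoint_left.mp hdisjP hmem ((hSm _).mpr ⟨s, hs, rfl⟩))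
  refine ht (hle ((h𝔞 t).mpr ?_))
  rw [Ideal.mem_span_singleton']
  exact ⟨e, by rw [mul_comm, hte]⟩

include hP' in
theorem gauss_unit_mul [IsDomain 𝔇] [ValuationRing 𝔇] (b : E) (hb : algebraMap E 𝔇 b ≠ 0) :
    ∃ (c : V) (u : 𝔇ˣ), algebraMap E 𝔇 b = u * algebraMap 𝔓 𝔇 (MvPolynomial.C c) := by
  classical
  obtain ⟨s, hs, e, he⟩ := gauss_star V n E P' hP' b hb
  obtain ⟨β, hβ⟩ : ∃ β : 𝔇, β = algebraMap E 𝔇 b := ⟨_, rfl⟩
  rw [← hβ] at he hb ⊢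
  obtain ⟨gB, hgB⟩ : ∃ gB : E →ₐ[𝔓] 𝔇 ⧸ Ideal.span {β},
      ∀ b', gB b' = Ideal.Quotient.mk _ (algebraMap E 𝔇 b') :=
    ⟨(Ideal.Quotient.mkₐ 𝔓 (Ideal.span {β})).comp (IsScalarTower.toAlgHom 𝔓 E 𝔇), fun _ => rfl⟩
  obtain ⟨ψ, hψ⟩ : ∃ ψ : 𝔈 →ₐ[𝔓] 𝔇 ⊗[𝔓] (𝔇 ⧸ Ideal.span {β}),
      ∀ (d : 𝔇) (b' : E), ψ (d ⊗ₜ[𝔓] b') = d ⊗ₜ[𝔓] gB b' :=
    ⟨Algebra.TensorProduct.map (AlgHom.id 𝔓 𝔇) gB, fun d b' => by simp⟩
  have hgb : gB b = 0 := by
    rw [hgB, Ideal.Quotient.eq_zero_iff_mem, ← hβ]; exact Ideal.mem_span_singleton_self _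
  have hψb : ψ ((1 : 𝔇) ⊗ₜ[𝔓] b) = 0 := by
    rw [hψ, hgb]; exact TensorProduct.tmul_zero _ _
  have h1 : (β ⊗ₜ[𝔓] gB s : 𝔇 ⊗[𝔓] (𝔇 ⧸ Ideal.span {β})) = 0 := by
    have h0 := congrArg ψ he
    rw [map_mul, map_mul, hψb, hψ, hψ, Algebra.TensorProduct.tmul_mul_tmul, one_mul,
      map_one, mul_one] at h0
    exact h0.trans (zero_mul (ψ e))
  have hsu : IsUnit (gB s) := by
    rw [hgB]
    exact (IsLocalization.map_units 𝔇 (⟨s, hs⟩ : P'.primeCompl)).map (Ideal.Quotient.mk _)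
  obtain ⟨r, hr⟩ := hsu.exists_left_inv
  have h2 : (β ⊗ₜ[𝔓] (1 : 𝔇 ⧸ Ideal.span {β}) : 𝔇 ⊗[𝔓] (𝔇 ⧸ Ideal.span {β})) = 0 := by
    have h3 : ((1 : 𝔇) ⊗ₜ[𝔓] r) * (β ⊗ₜ[𝔓] gB s) = β ⊗ₜ[𝔓] (1 : 𝔇 ⧸ Ideal.span {β}) := by
      rw [Algebra.TensorProduct.tmul_mul_tmul, one_mul, hr]
    rw [← h3, h1]; exact mul_zero ((1 : 𝔇) ⊗ₜ[𝔓] r)
  obtain ⟨f, hf⟩ : ∃ f : 𝔓 →ₐ[𝔓] (𝔇 ⧸ Ideal.span {β}),
      ∀ a, f a = Ideal.Quotient.mk _ (algebraMap 𝔓 𝔇 a) := ⟨Algebra.ofId 𝔓 _, fun _ => rfl⟩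
  have hι : Function.Injective (Ideal.kerLiftAlg f).toLinearMap := Ideal.kerLiftAlg_injective f
  haveI : Module.Flat 𝔓 𝔇 := Module.Flat.trans 𝔓 E 𝔇
  have hinj2 := Module.Flat.lTensor_preserves_injective_linearMap (M := 𝔇)
    (Ideal.kerLiftAlg f).toLinearMap hι
  have h3 : (β ⊗ₜ[𝔓] (1 : 𝔓 ⧸ RingHom.ker f) : 𝔇 ⊗[𝔓] (𝔓 ⧸ RingHom.ker f)) = 0 := by
    apply hinj2
    rw [LinearMap.lTensor_tmul, map_zero]
    show β ⊗ₜ[𝔓] (Ideal.kerLiftAlg f 1) = 0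
    rw [map_one]; exact h2
  have h4 : β ∈ (RingHom.ker f • ⊤ : Submodule 𝔓 𝔇) := by
    have h5 := congrArg (TensorProduct.tensorQuotEquivQuotSMul 𝔇 (RingHom.ker f)) h3
    rw [map_zero, ← map_one (Ideal.Quotient.mk (RingHom.ker f)),
      TensorProduct.tensorQuotEquivQuotSMul_tmul_mk, one_smul] at h5
    exact (Submodule.Quotient.mk_eq_zero _).mp h5
  have hker : ∀ a : 𝔓, a ∈ RingHom.ker f ↔ β ∣ algebraMap 𝔓 𝔇 a := by
    intro a
    rw [RingHom.mem_ker, hf, Ideal.Quotient.eq_zero_iff_mem, Ideal.mem_span_singleton]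
  have h5 : ∀ z ∈ (RingHom.ker f • ⊤ : Submodule 𝔓 𝔇),
      ∃ c : V, β ∣ algebraMap 𝔓 𝔇 (MvPolynomial.C c) ∧ algebraMap 𝔓 𝔇 (MvPolynomial.C c) ∣ z := by
    intro z hz
    refine Submodule.smul_induction_on hz ?_ ?_
    · intro F hFk d _
      by_cases hF0 : F = 0
      · exact ⟨0, by rw [map_zero, map_zero]; exact dvd_zero _, by rw [hF0, zero_smul]; exact dvd_zero _⟩
      obtain ⟨c, F0, hc, hFc, hF0m⟩ := gauss_factor V n F hF0
      obtain ⟨w, hw⟩ := gauss_isUnit V n E P' hP' F0 hF0m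
      have h6 : algebraMap 𝔓 𝔇 F = algebraMap 𝔓 𝔇 (MvPolynomial.C c) * w := by
        rw [hFc, map_mul, hw]
      refine ⟨c, ?_, ?_⟩
      · have h7 := (hker F).mp hFk
        rw [h6] at h7
        exact (Units.dvd_mul_right).mp h7
      · rw [Algebra.smul_def, h6, mul_assoc]
        exact dvd_mul_right _ _
    · rintro z1 z2 ⟨c1, hb1, hd1⟩ ⟨c2, hb2, hd2⟩
      rcases ValuationRing.dvd_total c1 c2 with h | h
      · exact ⟨c1, hb1, dvd_add hd1 ((map_dvd (algebraMap 𝔓 𝔇)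
          (map_dvd (MvPolynomial.C : V →+* 𝔓) h)).trans hd2)⟩
      · exact ⟨c2, hb2, dvd_add ((map_dvd (algebraMap 𝔓 𝔇)
          (map_dvd (MvPolynomial.C : V →+* 𝔓) h)).trans hd1) hd2⟩
  obtain ⟨c, ⟨c', hc'⟩, d, hd⟩ := h5 β h4
  have hcc : c' * d = 1 := by
    have h7 : β * (c' * d) = β * 1 := by rw [mul_one, ← mul_assoc, ← hc', ← hd]
    exact mul_left_cancel₀ hb h7
  exact ⟨c, ⟨d, c', by rw [mul_comm]; exact hcc, hcc⟩, hd.trans (mul_comm _ _)⟩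

end Gauss

end Groth.Agent.Helper7.ValEt
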