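import Mathlib
import Groth.Agent.Lib.Helper7.SHens.Normal
import Groth.Agent.Lib.Helper7.ValEt.Main

/-!
# (Strict) henselization of a valuation ring
-/

set_option linter.style.haveILetI false
set_option linter.unusedVariables false
set_option linter.unusedSectionVars false
set_option autoImplicit false
set_option backward.isDefEq.respectTransparency.types false
set_option backward.isDefEq.respectTransparency false
set_option synthInstance.maxHeartbeats 400000
set_option maxHeartbeats 1600000

universe u

namespace Groth.Agent.Helper7.ValEt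

open Groth.Agent.Helper7.SHens

section G

variable {R : Type u} [CommRing R] [IsDomain R] [ValuationRing R] {K : Type u} [Field K]
  [Algebra R K]

theorem G_valuation : IsDomain (G R K) ∧ (∀ _ : IsDomain (G R K), ValuationRing (G R K)) ∧
    Function.Injective (algebraMap R (G R K)) ∧
    ∀ s : G R K, s ≠ 0 → ∃ (a : R) (u : (G R K)ˣ), s = u * algebraMap R (G R K) a := by
  have hdom : IsDomain (G R K) := isDomain_G
  refine ⟨hdom, fun _ => ?_, ?_, ?_⟩
  · rw [ValuationRing.iff_dvd_total]
    refine ⟨fun c d => ?_⟩
    obtain ⟨U, x, y, rfl, rfl⟩ := exists_rep₂ c d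
    obtain ⟨hd, hv, -⟩ := claimVR R U.Ring U.q
    haveI := hd
    haveI : ValuationRing U.Loc := hv hd
    rcases ValuationRing.dvd_total (algebraMap U.Ring U.Loc x) (algebraMap U.Ring U.Loc y)
      with h | h
    · left
      have h1 := map_dvd (locMap U) h
      rwa [locMap_algebraMap, locMap_algebraMap] at h1
    · right
      have h1 := map_dvd (locMap U) h
      rwa [locMap_algebraMap, locMap_algebraMap] at h1
  · rw [injective_iff_map_eq_zero]
    intro a ha
    have h1 : ι (Nbhd.base R K) (algebraMap R _ a) = ι (Nbhd.base R K) 0 := by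
      rw [ι_algebraMap, ha, map_zero]
    obtain ⟨V, f, hf⟩ := exists_hom_eq_of_ι_eq _ _ h1
    rw [map_zero, AlgHom.commutes] at hf
    obtain ⟨-, -, hinj⟩ := claimVR R V.Ring V.q
    apply hinj
    rw [map_zero, IsScalarTower.algebraMap_apply R V.Ring V.Loc, hf, map_zero]
  · intro s hs
    obtain ⟨U, x, rfl⟩ := exists_rep s
    obtain ⟨hd, hv, -⟩ := claimVR R U.Ring U.q
    haveI := hd
    haveI : ValuationRing U.Loc := hv hd
    have hx : algebraMap U.Ring U.Loc x ≠ 0 := by
      intro h0
      apply hs
      rw [← locMap_algebraMap, h0, map_zero]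
    obtain ⟨a, u, hau⟩ := exists_eq_unit_mul R U.Ring U.q x hx
    refine ⟨a, Units.map (locMap U : U.Loc →* G R K) u, ?_⟩
    rw [← locMap_algebraMap, hau, map_mul, IsScalarTower.algebraMap_apply R U.Ring U.Loc,
      locMap_algebraMap, ι_algebraMap]
    rfl

end G

theorem transfer (A S : Type u) [CommRing A] [IsDomain A] [ValuationRing A] [CommRing S]
    [Algebra A S] (K : Type u) [Field K] [Algebra A K] (e : S ≃ₐ[A] G A K) :
    IsDomain S ∧ (∀ _ : IsDomain S, ValuationRing S) ∧ Function.Injective (algebraMap A S) ∧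
      ∀ s : S, s ≠ 0 → ∃ (a : A) (u : Sˣ), s = u * algebraMap A S a := by
  obtain ⟨hd, hv, hinj, hu⟩ := G_valuation (R := A) (K := K)
  haveI := hd
  have hdS : IsDomain S := e.toRingEquiv.toMulEquiv.isDomain
  refine ⟨hdS, fun _ => ?_, ?_, ?_⟩
  · haveI : ValuationRing (G A K) := hv hd
    rw [ValuationRing.iff_dvd_total]
    refine ⟨fun c d => ?_⟩
    rcases ValuationRing.dvd_total (e c) (e d) with h1 | h1
    · left
      have h2 := map_dvd e.symm h1
      rwa [e.symm_apply_apply, e.symm_apply_apply] at h2
    · right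
      have h2 := map_dvd e.symm h1
      rwa [e.symm_apply_apply, e.symm_apply_apply] at h2
  · intro a b hab
    apply hinj
    rw [← e.commutes, ← e.commutes, hab]
  · intro s hs
    have hes : e s ≠ 0 := fun h0 => hs (by rw [← e.symm_apply_apply s, h0, map_zero])
    obtain ⟨a, u, hau⟩ := hu (e s) hes
    refine ⟨a, Units.map (e.symm : G A K →* S) u, ?_⟩
    rw [← e.symm_apply_apply s, hau, map_mul, e.symm.commutes]
    rfl

theorem hens_main (A S : Type u) [CommRing A] [IsDomain A] [ValuationRing A] [CommRing S]
    [IsLocalRing S] [Algebra A S] [IsLocalHom (algebraMap A S)]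
    (h : Hensel.IsHenselization A S ∨ Hensel.IsStrictHenselization A S) :
    IsDomain S ∧ (∀ _ : IsDomain S, ValuationRing S) ∧ Function.Injective (algebraMap A S) ∧
      ∀ s : S, s ≠ 0 → ∃ (a : A) (u : Sˣ), s = u * algebraMap A S a := by
  rcases h with h | h
  · haveI := h
    obtain ⟨e⟩ := nonempty_algEquiv_HModel A S
    exact transfer A S (IsLocalRing.ResidueField A) e
  · haveI := h
    obtain ⟨e, -⟩ := exists_algEquiv_Model A S
    exact transfer A S (IsLocalRing.ResidueField S) e

end Groth.Agent.Helper7.ValEt
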