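import Mathlib
import Groth.Agent.Lib.Helper6.Normal.Smooth
import Groth.Agent.Lib.Helper7.ValEt.Gauss

/-!
# Generic points of the special fibre of a smooth algebra over a valuation ring
-/

set_option linter.style.haveILetI false
set_option linter.unusedVariables false
set_option linter.unusedSectionVars false
set_option autoImplicit false
set_option backward.isDefEq.respectTransparency.types false
set_option backward.isDefEq.respectTransparency false
set_option synthInstance.maxHeartbeats 400000
set_option maxHeartbeats 1600000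

universe u

namespace Groth.Agent.Helper7.ValEt

lemma isPrime_map_C_mv (V : Type u) [CommRing V] (n : ℕ) (I : Ideal V) [I.IsPrime] :
    (Ideal.map (MvPolynomial.C : V →+* MvPolynomial (Fin n) V) I).IsPrime := by
  rw [← Ideal.Quotient.isDomain_iff_prime]
  exact (MvPolynomial.quotientEquivQuotientMvPolynomial
    (σ := Fin n) I).symm.toRingEquiv.toMulEquiv.isDomain _

lemma algEquiv_of_comap {A : Type u} [CommRing A] (f : A) (Q : Ideal (Localization.Away f))
    [Q.IsPrime] (q : Ideal A) [q.IsPrime]
    (hq : Q.comap (algebraMap A (Localization.Away f)) = q) :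
    Nonempty (Localization.AtPrime q ≃ₐ[A] Localization.AtPrime Q) := by
  subst hq
  have : IsScalarTower A (Localization.Away f) (Localization.AtPrime Q) := inferInstance
  have hloc : IsLocalization.AtPrime (Localization.AtPrime Q)
      (Q.comap (algebraMap A (Localization.Away f))) :=
    IsLocalization.isLocalization_isLocalization_atPrime_isLocalization (.powers f) _ Q
  exact ⟨IsLocalization.algEquiv (Q.comap (algebraMap A (Localization.Away f))).primeCompl _ _⟩

section Aux

variable (V : Type u) [CommRing V] [IsDomain V] [ValuationRing V]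
  (A : Type u) [CommRing A] [IsDomain A] [Algebra V A] [Module.Flat V A]
  (p : Ideal A) [p.IsPrime]
  (hp : p ∈ ((IsLocalRing.maximalIdeal V).map (algebraMap V A)).minimalPrimes)
  (f : A) (hfp : f ∉ p) (n : ℕ) [Algebra (MvPolynomial (Fin n) V) (Localization.Away f)]
  [IsScalarTower V (MvPolynomial (Fin n) V) (Localization.Away f)]
  [Algebra.Etale (MvPolynomial (Fin n) V) (Localization.Away f)]

local notation "𝔓" => MvPolynomial (Fin n) V
local notation "𝔼" => Localization.Away f
local notation "𝔪" => Ideal.map (MvPolynomial.C : V →+* MvPolynomial (Fin n) V)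
  (IsLocalRing.maximalIdeal V)

include hp hfp n in
theorem smooth_aux :
    ValuationRing (Localization.AtPrime p) ∧
      Function.Injective (algebraMap V (Localization.AtPrime p)) ∧
      IsLocalHom (algebraMap V (Localization.AtPrime p)) ∧
      ∀ x : Localization.AtPrime p, x ≠ 0 →
        ∃ (v : V) (w : (Localization.AtPrime p)ˣ),
          x = algebraMap V (Localization.AtPrime p) v * w := by
  classical
  have hmle : (IsLocalRing.maximalIdeal V).map (algebraMap V A) ≤ p := hp.1.2
  have hdisj : Disjoint (Submonoid.powers f : Set A) (p : Set A) :=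
    (Ideal.disjoint_powers_iff_notMem_of_isPrime _).mpr hfp
  haveI hprime : (p.map (algebraMap A 𝔼)).IsPrime :=
    IsLocalization.isPrime_of_isPrime_disjoint (.powers f) _ _ ‹_› hdisj
  have hcomap : (p.map (algebraMap A 𝔼)).comap (algebraMap A 𝔼) = p :=
    IsLocalization.under_map_of_isPrime_disjoint (.powers f) _ ‹_› hdisj
  have hCc : ∀ c : V, algebraMap 𝔓 𝔼 (MvPolynomial.C c) = algebraMap A 𝔼 (algebraMap V A c) := by
    intro c
    rw [← MvPolynomial.algebraMap_eq, ← IsScalarTower.algebraMap_apply V 𝔓 𝔼,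
      IsScalarTower.algebraMap_apply V A 𝔼]
  haveI h𝔪prime : (𝔪).IsPrime := isPrime_map_C_mv V n _
  -- the prime lies over the Gauss point
  have hP' : ∀ F : 𝔓, F ∉ 𝔪 → algebraMap 𝔓 𝔼 F ∉ p.map (algebraMap A 𝔼) := by
    intro F hF hmem
    have hle : 𝔪 ≤ (p.map (algebraMap A 𝔼)).comap (algebraMap 𝔓 𝔼) := by
      rw [Ideal.map_le_iff_le_comap]
      intro c hc
      rw [Ideal.mem_comap, Ideal.mem_comap, hCc]
      exact Ideal.mem_map_of_mem _ (hmle (Ideal.mem_map_of_mem _ hc))
    haveI : (p.map (algebraMap A 𝔼)).LiesOver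
        ((p.map (algebraMap A 𝔼)).comap (algebraMap 𝔓 𝔼)) := ⟨rfl⟩
    obtain ⟨P₀, hP₀le, hP₀prime, hP₀over⟩ := Ideal.exists_ideal_le_liesOver_of_le
      (p := 𝔪) (q := (p.map (algebraMap A 𝔼)).comap (algebraMap 𝔓 𝔼))
      (p.map (algebraMap A 𝔼)) hle
    haveI := hP₀prime
    have h2 : (IsLocalRing.maximalIdeal V).map (algebraMap V A) ≤
        P₀.comap (algebraMap A 𝔼) := by
      rw [Ideal.map_le_iff_le_comap]
      intro c hc
      rw [Ideal.mem_comap, Ideal.mem_comap, ← hCc]
      have h3 : MvPolynomial.C c ∈ P₀.under 𝔓 := by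
        rw [← hP₀over.over]; exact Ideal.mem_map_of_mem _ hc
      exact h3
    have h4 : P₀.comap (algebraMap A 𝔼) ≤ p := by
      rw [← hcomap]; exact Ideal.comap_mono hP₀le
    have h5 : p ≤ P₀.comap (algebraMap A 𝔼) := hp.2 ⟨inferInstance, h2⟩ h4
    have h6 : p.map (algebraMap A 𝔼) ≤ P₀ :=
      (Ideal.map_mono h5).trans Ideal.map_comap_le
    apply hF
    rw [hP₀over.over]
    exact h6 hmem
  -- normality
  haveI : IsIntegrallyClosed 𝔓 :=
    Groth.Agent.Lib.Helper6.Normal.mvPolynomial_fin_isIntegrallyClosed V n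
  obtain ⟨hdom1, hic1⟩ :=
    Groth.Agent.Lib.Helper6.Normal.isNormalRing_of_etale 𝔓 𝔼 (p.map (algebraMap A 𝔼))
  haveI := hdom1
  haveI := hic1
  haveI hval1 : ValuationRing (Localization.AtPrime (p.map (algebraMap A 𝔼))) :=
    gauss_valuationRing V n 𝔼 (p.map (algebraMap A 𝔼)) hP'
  obtain ⟨e⟩ := algEquiv_of_comap f (p.map (algebraMap A 𝔼)) p hcomap
  -- compatibility of `V`-structures
  have heV : ∀ c : V, e (algebraMap V (Localization.AtPrime p) c) =
      algebraMap 𝔓 (Localization.AtPrime (p.map (algebraMap A 𝔼))) (MvPolynomial.C c) := by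
    intro c
    rw [IsScalarTower.algebraMap_apply V A (Localization.AtPrime p), e.commutes,
      IsScalarTower.algebraMap_apply 𝔓 𝔼 (Localization.AtPrime (p.map (algebraMap A 𝔼))), hCc,
      ← IsScalarTower.algebraMap_apply A 𝔼 (Localization.AtPrime (p.map (algebraMap A 𝔼)))]
  have hinjA : Function.Injective (algebraMap A (Localization.AtPrime p)) :=
    IsLocalization.injective (Localization.AtPrime p) p.primeCompl_le_nonZeroDivisors
  have hinjV : Function.Injective (algebraMap V A) := FaithfulSMul.algebraMap_injective V A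
  refine ⟨?_, ?_, ?_, ?_⟩
  · rw [ValuationRing.iff_dvd_total]
    refine ⟨fun c d => ?_⟩
    rcases ValuationRing.dvd_total (e c) (e d) with h1 | h1
    · left
      have h2 := map_dvd e.symm h1
      rwa [e.symm_apply_apply, e.symm_apply_apply] at h2
    · right
      have h2 := map_dvd e.symm h1
      rwa [e.symm_apply_apply, e.symm_apply_apply] at h2
  · rw [IsScalarTower.algebraMap_eq V A (Localization.AtPrime p)]
    exact hinjA.comp hinjV
  · constructor
    intro v hv
    rw [IsScalarTower.algebraMap_apply V A (Localization.AtPrime p),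
      IsLocalization.AtPrime.isUnit_to_map_iff (Localization.AtPrime p) p] at hv
    by_contra hnv
    have h1 : v ∈ IsLocalRing.maximalIdeal V := (IsLocalRing.mem_maximalIdeal v).mpr hnv
    exact hv (hmle (Ideal.mem_map_of_mem _ h1))
  · intro x hx
    have hex : e x ≠ 0 := fun h0 => hx (by rw [← e.symm_apply_apply x, h0, map_zero])
    obtain ⟨⟨b, s⟩, hbs⟩ := IsLocalization.surj (p.map (algebraMap A 𝔼)).primeCompl (e x)
    have hbs' : e x * algebraMap 𝔼 (Localization.AtPrime (p.map (algebraMap A 𝔼))) (s : 𝔼) =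
        algebraMap 𝔼 (Localization.AtPrime (p.map (algebraMap A 𝔼))) b := hbs
    have hus : IsUnit (algebraMap 𝔼 (Localization.AtPrime (p.map (algebraMap A 𝔼))) (s : 𝔼)) :=
      IsLocalization.map_units _ s
    have hb : algebraMap 𝔼 (Localization.AtPrime (p.map (algebraMap A 𝔼))) b ≠ 0 := by
      rw [← hbs']; exact mul_ne_zero hex hus.ne_zero
    obtain ⟨c, u, hcu⟩ := gauss_unit_mul V n 𝔼 (p.map (algebraMap A 𝔼)) hP' b hb
    obtain ⟨w, hw⟩ := hus
    refine ⟨c, Units.map (e.symm : Localization.AtPrime (p.map (algebraMap A 𝔼)) →*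
      Localization.AtPrime p) (u * w⁻¹), ?_⟩
    have h1 : e x = algebraMap 𝔼 (Localization.AtPrime (p.map (algebraMap A 𝔼))) b * ↑w⁻¹ := by
      rw [← hbs', ← hw, mul_assoc, Units.mul_inv, mul_one]
    have h2 : e x = e (algebraMap V (Localization.AtPrime p) c) * ↑(u * w⁻¹) := by
      rw [h1, hcu, heV, Units.val_mul]; ring
    have h3 := congrArg e.symm h2
    rw [e.symm_apply_apply, map_mul, e.symm_apply_apply] at h3
    exact h3

end Aux

theorem smooth_main (V : Type u) [CommRing V] [IsDomain V] [ValuationRing V]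
    (A : Type u) [CommRing A] [IsDomain A] [Algebra V A] [Algebra.Smooth V A]
    (p : Ideal A) [p.IsPrime]
    (hp : p ∈ ((IsLocalRing.maximalIdeal V).map (algebraMap V A)).minimalPrimes) :
    ValuationRing (Localization.AtPrime p) ∧
      Function.Injective (algebraMap V (Localization.AtPrime p)) ∧
      IsLocalHom (algebraMap V (Localization.AtPrime p)) ∧
      ∀ x : Localization.AtPrime p, x ≠ 0 →
        ∃ (v : V) (w : (Localization.AtPrime p)ˣ),
          x = algebraMap V (Localization.AtPrime p) v * w := by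
  obtain ⟨f, hfp, n, _, _, _⟩ :=
    Algebra.IsSmoothAt.exists_isStandardEtale_mvPolynomial (R := V) (p := p)
  exact smooth_aux V A p hp f hfp n

end Groth.Agent.Helper7.ValEt
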